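import Groth.Agent.Lib.ExtShriek24.Constructible
import Groth.Agent.Lib.FieldH25.Transfer
import Groth.Agent.Lib.EtStalk.IntegralUniv
import Groth.Agent.Lib.CdField3.Nearby
import Groth.Agent.Lib.LocSymB.Basic
import Groth.Agent.Lib.PicWittH7.Global
import Mathlib.AlgebraicGeometry.ZariskisMainTheorem

/-!
# Sheaves supported in finitely many closed points
-/

set_option autoImplicit false
set_option linter.style.haveILetI false
set_option backward.isDefEq.respectTransparency false
set_option backward.isDefEq.respectTransparency.types false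

universe u

open CategoryTheory CategoryTheory.Limits AlgebraicGeometry Opposite CategoryTheory.Abelian

namespace Groth.Agent.FinFr3

open Groth.Agent

/-- A sheaf supported on a closed subscheme finite over an algebraically closed field has no higher cohomology. -/
theorem subsingleton_H_of_supp_finite {K : Type u} [Field K] [IsAlgClosed K] {P Z : Scheme.{u}}
    (i : Z ⟶ P) [IsClosedImmersion i] (z : Z ⟶ Spec (CommRingCat.of K)) [IsFinite z] (G : EtCoh.Ab P)
    (hG : EtPBC.supp G ⊆ Set.range i.base) (q : ℕ) (hq : 0 < q) : Subsingleton (EtCoh.H P G q) := by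
  haveI := EtStalk.isIso_unit_integral i G hG
  let E := (EtCoh.pull i).obj G
  have h1 : Subsingleton (EtCoh.H Z E q) := by
    haveI := EtPic3.subsingleton_H_sepClosed K ((EtCoh.push z).obj E) hq
    exact (FieldH25.bijective_HofPush_integral z E q).2.subsingleton
  have h2 : Subsingleton (EtCoh.H P ((EtCoh.push i).obj E) q) := by
    haveI := h1
    exact (FieldH25.bijective_HofPush_integral i E q).1.subsingleton
  refine subsingleton_of_forall_eq 0 fun x => ?_
  exact FieldH25.eq_zero_of_comp_iso x (asIso ((EtCoh.pullPushAdj i).unit.app G))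
    (@Subsingleton.elim _ h2 _ _)

theorem finite_closedPoints_of_isClosed_finite {T : Type*} [TopologicalSpace T] [JacobsonSpace T]
    {C : Set T} (hC : IsClosed C) (hf : C.Finite) : ∀ x ∈ C, IsClosed ({x} : Set T) := by
  intro x hx
  have h1 : IsClosed (C ∩ closedPoints T) := by
    have : C ∩ closedPoints T = ⋃ y ∈ C ∩ closedPoints T, {y} := (Set.biUnion_of_singleton _).symm
    rw [this]
    exact (hf.inter_of_left _).isClosed_biUnion fun y hy => hy.2
  have h2 := JacobsonSpace.closure_inter_closedPoints (X := T) hC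
  rw [h1.closure_eq] at h2
  exact (h2.symm.subset hx : x ∈ C ∩ closedPoints T).2

/-- Bijectivity on cohomology from vanishing for the cokernel. -/
theorem bijective_H_map {C : Type*} [Category C] {J : GrothendieckTopology C}
    [HasSheafify J AddCommGrpCat.{u + 1}] [HasExt.{u + 1} (Sheaf J AddCommGrpCat.{u + 1})]
    (S : ShortComplex (Sheaf J AddCommGrpCat.{u + 1})) (hS : S.ShortExact) (n : ℕ)
    (h1 : Subsingleton (Sheaf.H S.X₃ n)) (h2 : Subsingleton (Sheaf.H S.X₃ (n + 1))) :
    Function.Bijective (Sheaf.H.map S.f (n + 1)) := by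
  refine ⟨fun x y e => ?_, fun y => ?_⟩
  · rw [← sub_eq_zero]
    have e0 : (x - y).comp (Ext.mk₀ S.f) (add_zero (n + 1)) = 0 := by
      rw [sub_eq_add_neg, Ext.add_comp, Ext.neg_comp, ← sub_eq_add_neg, sub_eq_zero]
      exact e
    obtain ⟨w, hw⟩ := Ext.covariant_sequence_exact₁ _ hS (x - y) e0 rfl
    rw [← hw, @Subsingleton.elim _ h1 w 0, Ext.zero_comp]
  · obtain ⟨x, hx⟩ := Ext.covariant_sequence_exact₂ _ hS y (@Subsingleton.elim _ h2 _ _)
    exact ⟨x, hx⟩

end Groth.Agent.FinFr3
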