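import Groth.Agent.Lib.LocConst24.Basic
import Groth.Agent.Lib.EtStalk.Agree
import Groth.Agent.Lib.EtStalk.OpenImm
import Groth.Agent.Lib.PointLim24.Crit

/-!
# Supports of sections of extensions by zero
-/

set_option autoImplicit false
set_option linter.style.haveILetI false
set_option backward.isDefEq.respectTransparency false
set_option backward.isDefEq.respectTransparency.types false

universe u

open CategoryTheory CategoryTheory.Limits AlgebraicGeometry Opposite

namespace Groth.Agent.FinFr3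

open Groth.Agent Groth.Agent.EtStalk

/-- The zero locus of a global section of a locally constant sheaf is closed. -/
theorem isClosed_agree_zero {Y : Scheme.{u}} {E : EtCoh.Ab Y} (hE : EtCoh.IsFiniteLocallyConstant E)
    (s : E.obj.obj (op (EtCoh.top Y))) : IsClosed (agree E s 0) := by
  rw [← isOpen_compl_iff, isOpen_iff_forall_mem_open]
  intro y hy
  obtain ⟨ι, U, hcov, hloc⟩ := hE
  obtain ⟨i, u, hu⟩ := hcov y
  obtain ⟨M, _, _, ⟨θ⟩⟩ := hloc i
  let p : U i ⟶ EtCoh.top Y := (EtCore.topIsTerminal Y).from (U i)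
  have hp : p.left = (U i).hom :=
    (Category.comp_id p.left).symm.trans (MorphismProperty.Over.w p)
  obtain ⟨Z, b, hz, m, hm⟩ := LocConst24.exists_rho θ (𝟙 (U i)) (E.obj.map p.op s) u
  haveI := etale_left (b ≫ p)
  refine ⟨Set.range (b ≫ p).left, ?_, (b ≫ p).left.isOpenMap.isOpen_range, ?_⟩
  · rintro _ ⟨z, rfl⟩ hw
    by_cases hm0 : m = 0
    · apply hy
      have h1 : E.obj.map (b ≫ p).op s = 0 := by
        rw [op_comp, Functor.map_comp, ConcreteCategory.comp_apply, ← hm, hm0, map_zero]
      obtain ⟨z₀, hz₀⟩ := hz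
      refine ⟨Z, b ≫ p, ⟨z₀, ?_⟩, by rw [h1, map_zero]⟩
      show p.left (b.left z₀) = y
      rw [hz₀, hp]; exact hu
    · have h2 : z ∈ agree E (E.obj.map (b ≫ p).op s) (E.obj.map (b ≫ p).op 0) :=
        (mem_agree_map E (b ≫ p) s 0 z).2 hw
      obtain ⟨V, g, ⟨v, -⟩, he⟩ := h2
      refine hm0 (LocConst24.rho_injective θ (g ≫ b ≫ 𝟙 (U i)) ⟨v⟩ ?_)
      rw [← LocConst24.rho_res θ g (b ≫ 𝟙 (U i)) m, hm, map_zero]
      rw [map_zero, map_zero] at he
      rw [← he, op_comp, Functor.map_comp, ConcreteCategory.comp_apply]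
  · obtain ⟨z₀, hz₀⟩ := hz
    exact ⟨z₀, by show p.left (b.left z₀) = y; rw [hz₀, hp]; exact hu⟩

/-- A sheaf vanishing outside a non-closed preconnected open on which it is locally constant has no
non-zero global sections. -/
theorem eq_zero_of_support {P W : Scheme.{u}} (j : W ⟶ P) [IsOpenImmersion j] [PreconnectedSpace ↥W]
    (hW : ¬ IsClosed (Set.range j)) (G : EtCoh.Ab P)
    (hout : ∀ (Ω : Type u) [Field Ω] [IsSepClosed Ω] (ξ : Spec (CommRingCat.of Ω) ⟶ P),
      ξ (default : Spec (CommRingCat.of Ω)) ∉ Set.range j → IsZero ((EtCoh.stalk ξ).obj G))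
    (hE : EtCoh.IsFiniteLocallyConstant ((EtCoh.pull j).obj G))
    (s : G.obj.obj (op (EtCoh.top P))) : s = 0 := by
  let s' := ((EtCoh.pull j).obj G).obj.map (EtCore.bcTopIso j).inv.op
    (((EtCoh.pullPushAdj j).unit.app G).hom.app (op (EtCoh.top P)) s)
  have hiff : ∀ w : W, w ∈ agree ((EtCoh.pull j).obj G) s' 0 ↔ j w ∈ agree G s 0 := by
    intro w
    have h0 : (0 : ((EtCoh.pull j).obj G).obj.obj (op (EtCoh.top W))) =
        ((EtCoh.pull j).obj G).obj.map (EtCore.bcTopIso j).inv.op
          (((EtCoh.pullPushAdj j).unit.app G).hom.app (op (EtCoh.top P)) 0) := by rw [map_zero, map_zero]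
    rw [h0, mem_agree_map, mem_agree_unit]
    have hb : bcFst j (EtCoh.top P) ((EtCore.bcTopIso j).inv.left w) = j w := by
      let q : W ⟶ pullback (EtCoh.top P).hom j := (EtCore.bcTopIso j).inv.left
      have h1 : q ≫ pullback.snd (EtCoh.top P).hom j = 𝟙 W :=
        MorphismProperty.Over.w (EtCore.bcTopIso j).inv
      have h2 : q ≫ pullback.fst (EtCoh.top P).hom j = j :=
        (congrArg (q ≫ ·) (Category.comp_id (pullback.fst (EtCoh.top P).hom j)).symm).trans
          ((congrArg (q ≫ ·) pullback.condition).trans ((Category.assoc _ _ _).symm.trans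
            ((congrArg (· ≫ j) h1).trans (Category.id_comp j))))
      exact congr(($h2) w)
    rw [hb]
  have hout' : ∀ x : P, x ∉ Set.range j → x ∈ agree G s 0 := by
    intro x hx
    obtain ⟨φ, hφ⟩ := exists_fib (EtCoh.top P) x
    have hφ' : fibPt φ = x := hφ
    rw [← hφ', mem_agree_iff_germ]
    refine @Subsingleton.elim _ (AddCommGrpCat.subsingleton_of_isZero (hout _ _ ?_)) _ _
    intro h
    apply hx
    rw [← hφ']
    convert h using 1
    exact (congr(($(Over.w φ)) (default : Spec _))).symm ▸ rfl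
  have hclopen : IsClopen (agree ((EtCoh.pull j).obj G) s' 0) :=
    ⟨isClosed_agree_zero hE s', isOpen_agree _ _ _⟩
  haveI : PreconnectedSpace (EtCoh.top W).left := inferInstanceAs (PreconnectedSpace ↥W)
  rcases isClopen_iff.1 hclopen with h | h
  · exfalso
    apply hW
    have heq : (Set.range j : Set P) = (agree G s 0)ᶜ := by
      ext x
      refine ⟨?_, fun hx => by_contra fun hx' => hx (hout' x hx')⟩
      rintro ⟨w, rfl⟩ hw
      have := (hiff w).2 hw
      rw [h] at this
      exact this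
    rw [heq]
    exact (isOpen_agree G s 0).isClosed_compl
  · refine eq_of_agree G fun x => ?_
    by_cases hx : x ∈ Set.range j
    · obtain ⟨w, rfl⟩ := hx
      exact (hiff w).1 (h.symm ▸ Set.mem_univ w)
    · exact hout' x hx

end Groth.Agent.FinFr3
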